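import Groth.Agent.Lib.Bott.WedgeSES
import Groth.Agent.Lib.FundLocal.WedgeDual

/-!
# Exterior powers: degree zero, free modules, and beyond the rank
-/

set_option autoImplicit false
set_option linter.style.haveILetI false
universe u

open CategoryTheory CategoryTheory.Limits AlgebraicGeometry Opposite TopologicalSpace

noncomputable section

namespace Groth.Agent.Lib.Bott.FreePow

open Groth.Agent.Lib Groth.Agent.Lib.Modules
open Groth.Agent.Lib.TensorMod.Dual (rs rf rs_rs rs_smul)
open Groth.Agent.Lib.TensorMod.Basis (IsBasis comb)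

variable {X : Scheme.{u}}

/-- A module with a global basis is free. -/
theorem nonempty_iso_of_isBasis {M : X.Modules} {n : ℕ} {e : Fin n → Γ(M, ⊤)} (he : IsBasis e) :
    Nonempty (FlatMod.freeMod X n ≅ M) := by
  let φ := Free.freeHom (M := M) e
  haveI : IsIso φ := by
    refine ClSub.Basis.isIso_of_bijective_affine φ fun U => ?_
    refine (Function.Bijective.of_comp_iff _ (TensorMod.Basis.isBasis_freeMod X n U.1 le_top)).1 ?_
    have h : φ.app U.1 ∘ comb (U := (⊤ : X.Opens)) (Free.gen X) (le_top (a := U.1)) =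
        comb e (le_top (a := U.1)) := funext fun a => by
      rw [Function.comp_apply, TensorMod.Basis.app_comb]
      simp only [φ, Free.freeHom_app_gen]
    rw [h]
    exact he U.1 le_top
  exact ⟨asIso φ⟩

/-- The zeroth exterior power is the structure module. -/
theorem nonempty_iso_zero {E L : X.Modules} (hL : ExtPow.IsExtPow 0 E L) :
    Nonempty (Coh.structureModule X ≅ L) := by
  obtain ⟨φ, hφ⟩ := hL
  let e : ∀ U : X.affineOpens, Γ(X, U.1) ≃ₗ[Γ(X, U.1)] Γ(L, U.1) := fun U =>
    (exteriorPower.zeroEquiv Γ(X, U.1) Γ(E, U.1)).symm ≪≫ₗ (φ U).symm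
  have he1 : ∀ U, e U 1 = (φ U).symm (exteriorPower.ιMulti Γ(X, U.1) 0 (M := Γ(E, U.1)) Fin.elim0) := fun U => by
    show (φ U).symm ((exteriorPower.zeroEquiv Γ(X, U.1) Γ(E, U.1)).symm 1) = _
    rw [(exteriorPower.zeroEquiv Γ(X, U.1) Γ(E, U.1)).symm_apply_eq.2
      (exteriorPower.zeroEquiv_ιMulti (R := Γ(X, U.1)) (M := Γ(E, U.1)) Fin.elim0).symm]
  have her : ∀ U r, e U r = r • e U 1 := fun U r => by
    rw [← LinearEquiv.map_smul, smul_eq_mul, mul_one]
  obtain ⟨ψ, hψ⟩ := Modules.AffineHom.exists_hom_of_affine (M := Coh.structureModule X) (N := L)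
    (fun U => (e U).toLinearMap) fun U V h (m : Γ(X, U.1)) => by
      show rs L h (e U m) = e V (rf h m)
      rw [her U m, her V (rf h m), rs_smul, he1, he1]
      refine congrArg (rf h m • ·) ((hφ U V h Fin.elim0).trans ?_)
      exact congrArg (fun t => (φ V).symm (exteriorPower.ιMulti _ 0 t)) (funext fun j => j.elim0)
  haveI : IsIso ψ := ClSub.Basis.isIso_of_bijective_affine ψ fun U => by
    rw [show ⇑(ψ.app U.1) = ⇑(e U).toLinearMap from funext (hψ U)]
    exact (e U).bijective
  exact ⟨asIso ψ⟩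

/-- Exterior powers beyond the rank vanish. -/
theorem isZero {E L : X.Modules} {n p : ℕ} (hE : FlatMod.IsFinLocFreeOfRank n E) (hp : n < p)
    (hL : ExtPow.IsExtPow p E L) : IsZero L := by
  obtain ⟨φ, hφ⟩ := hL
  rw [IsZero.iff_id_eq_zero]
  refine StalkModule.hom_ext_stalkMapₗ fun x => LinearMap.ext fun v => ?_
  obtain ⟨U, hxU, ⟨i⟩⟩ := hE x
  obtain ⟨e₀, he₀⟩ := TensorMod.Basis.exists_basis_of_iso i
  obtain ⟨A, hAU, hxA⟩ := Modules.AffineHom.exists_affine hxU
  obtain ⟨b, -⟩ := FundLocal.WedgeDual.isFrame_wedge φ hφ A _ (he₀.res hAU) x hxA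
  haveI : IsEmpty (Set.powersetCard (Fin n) p) := ⟨fun S => by
    have h1 := Finset.card_le_univ (S : Finset (Fin n))
    rw [Set.powersetCard.card_eq, Fintype.card_fin] at h1
    omega⟩
  haveI : Subsingleton (L.presheaf.stalk x) := b.repr.toEquiv.subsingleton
  exact Subsingleton.elim _ _

/-- Exterior powers of a free module are free. -/
theorem nonempty_iso_free {n p : ℕ} {N : X.Modules} (hN : ExtPow.IsExtPow p (FlatMod.freeMod X n) N) :
    Nonempty (FlatMod.freeMod X (n.choose p) ≅ N) := by
  classical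
  obtain ⟨φ₀, hφ₀⟩ := hN
  let φ : ∀ U : X.affineOpens,
      Γ(N, U.1) ≃ₗ[Γ(X, U.1)] ↥(⋀[Γ(X, U.1)]^p Γ(FlatMod.freeMod X n, U.1)) := φ₀
  have hφ : ∀ (U V : X.affineOpens) (h : V.1 ≤ U.1) (e : Fin p → Γ(FlatMod.freeMod X n, U.1)),
      rs N h ((φ U).symm (exteriorPower.ιMulti _ p e)) =
        (φ V).symm (exteriorPower.ιMulti _ p fun j => rs _ h (e j)) := hφ₀
  let I := Set.powersetCard (Fin n) p
  have hc : Fintype.card I = n.choose p := by
    rw [← Nat.card_eq_fintype_card, Set.powersetCard.card, Nat.card_eq_fintype_card, Fintype.card_fin]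
  let ε : I ≃ Fin (n.choose p) := (Fintype.equivFin I).trans (finCongr hc)
  let g : Fin n → Γ(FlatMod.freeMod X n, ⊤) := Free.gen X
  let g' : Fin (n.choose p) → Γ(FlatMod.freeMod X (n.choose p), ⊤) := Free.gen X
  let bB : ∀ {c : ℕ} (U : X.affineOpens), Module.Basis (Fin c) Γ(X, U.1) Γ(FlatMod.freeMod X c, U.1) :=
    fun {c} U => Module.Basis.ofEquivFun (LinearEquiv.ofBijective
      (Fintype.linearCombination Γ(X, U.1) fun k => rs (FlatMod.freeMod X c) le_top (Free.gen X k)) (by
        rw [show ⇑(Fintype.linearCombination Γ(X, U.1) fun k =>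
            rs (FlatMod.freeMod X c) (le_top (a := U.1)) (Free.gen X k)) =
              comb (U := (⊤ : X.Opens)) (Free.gen X) (le_top (a := U.1)) from
          funext fun a => by simp only [Fintype.linearCombination_apply, comb]]
        exact TensorMod.Basis.isBasis_freeMod X c U.1 le_top)).symm
  have hb : ∀ {c : ℕ} (U : X.affineOpens) (k : Fin c), bB U k = rs (FlatMod.freeMod X c) le_top (Free.gen X k) :=
    fun {c} U k => by
      simp only [bB, Module.Basis.coe_ofEquivFun, LinearEquiv.symm_symm, LinearEquiv.ofBijective_apply]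
      exact (Fintype.linearCombination_apply_single _ _ k 1).trans (one_smul _ _)
  let BN : ∀ U : X.affineOpens, Module.Basis (Fin (n.choose p)) Γ(X, U.1) Γ(N, U.1) := fun U =>
    (((bB U).exteriorPower p).map (φ U).symm).reindex ε
  have hBN : ∀ U V (h : V.1 ≤ U.1) k, rs N h (BN U k) = BN V k := fun U V h k => by
    show rs N h ((((bB U).exteriorPower p).map (φ U).symm).reindex ε k) =
      (((bB V).exteriorPower p).map (φ V).symm).reindex ε k
    rw [Module.Basis.reindex_apply, Module.Basis.reindex_apply, Module.Basis.map_apply, Module.Basis.map_apply,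
      exteriorPower.basis_apply, exteriorPower.basis_apply]
    refine (hφ U V h _).trans ?_
    refine congrArg (φ V).symm (congrArg (exteriorPower.ιMulti _ p) (funext fun j => ?_))
    simp only [Function.comp_apply, hb]
    exact rs_rs _ _ h _
  obtain ⟨ψ, hψ⟩ := Modules.AffineHom.exists_hom_of_affine
    (fun U => ((bB U).equiv (BN U) (Equiv.refl _)).toLinearMap) fun U V h m => by
      obtain ⟨a, rfl⟩ := (bB U).equivFun.symm.surjective m
      simp only [Module.Basis.equivFun_symm_apply, map_sum, map_smul, LinearEquiv.coe_coe,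
        Module.Basis.equiv_apply, Equiv.refl_apply, rs_smul, hBN]
      refine Finset.sum_congr rfl fun k _ => congrArg (rf h (a k) • ·) ?_
      rw [show rs (FlatMod.freeMod X (n.choose p)) h (bB U k) = bB V k by rw [hb, hb, rs_rs],
        Module.Basis.equiv_apply, Equiv.refl_apply]
  haveI : IsIso ψ := ClSub.Basis.isIso_of_bijective_affine ψ fun U => by
    rw [show ⇑(ψ.app U.1) = ⇑((bB U).equiv (BN U) (Equiv.refl _)).toLinearMap from funext (hψ U)]
    exact ((bB U).equiv (BN U) (Equiv.refl _)).bijective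
  exact ⟨asIso ψ⟩

end Groth.Agent.Lib.Bott.FreePow
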