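import Groth.Agent.Lib.Bott.Euler
import Groth.Agent.Lib.Snapper.Finite
import Groth.Agent.S0843
import Groth.Agent.S0844
import Groth.Agent.S0845
import Groth.Agent.H66.Cot.Graded

/-!
# Bott vanishing and the Hodge cohomology of projective space
-/

set_option autoImplicit false
set_option linter.style.haveILetI false
universe u

open CategoryTheory CategoryTheory.Limits AlgebraicGeometry Opposite TopologicalSpace

noncomputable section

namespace Groth.Agent.Lib.Bott.Coh

open Groth.Agent.Lib Groth.Agent.Lib.TensorMod.Basic Groth.Agent.Lib.Bott.Euler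
open Groth.Agent.Lib.ProjCoh.Coherent
open Groth.Agent.Lib.Curves.LES (mapK δK isoK exactK₁ exactK₂ exactK₃)

variable {n : ℕ} {A : Type u} [CommRing A]

local notation "ℙ" => CohB1.ProjSpace n A

theorem subsingleton_of_isZero {X : Scheme.{u}} [X.Over (Spec (CommRingCat.of A))] {M : X.Modules}
    (h : IsZero M) (q : ℕ) : Subsingleton (Coh.HH X M q) := by
  refine subsingleton_of_forall_eq 0 fun x => ?_
  have hz : 𝟙 M = (0 : M ⟶ M) := h.eq_of_src _ _
  have h0 : mapK A (0 : M ⟶ M) q x = 0 := by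
    have := mapK_add A (0 : M ⟶ M) 0 q x
    rw [add_zero] at this
    exact left_eq_add.1 this
  rw [← h0, ← hz, Curves.LES.mapK_id]
  rfl

/-- Vanishing of `H^q` of a sum of twists. -/
theorem subsingleton_sumTS (c : ℕ) (a : ℤ) (q : ℕ) (h₀ : ¬ (q = 0 ∧ 0 ≤ a))
    (hn : ¬ (q = n ∧ a ≤ -((n : ℤ) + 1))) : Subsingleton (Coh.HH ℙ (sumTS n A c a) q) := by
  haveI : Subsingleton (Coh.HH ℙ (tw n A a) q) := Groth.Agent.S0844.result A n a q h₀ hn
  exact subsingleton_HH_sumTS c ((isoK A (twIso (n := n) (R := A) a) q).symm.injective.subsingleton)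

variable (n A) in
/-- Vanishing of every `H^q(Ω^p(d))`, `p` beyond the rank. -/
theorem subsingleton_of_gt {p : ℕ} (hp : n < p) {L : (CohB1.ProjSpace n A).Modules}
    (hL : ExtPow.IsExtPow p (ΩP n A) L) (d : ℤ) (q : ℕ) :
    Subsingleton (Coh.HH ℙ (CohB1.tensorMod L (tw n A d)) q) :=
  subsingleton_of_isZero (A := A)
    ((tensorBy (tw n A d)).map_isZero (FreePow.isZero (rank_omega n A) hp hL)) q

theorem exists_pow (n : ℕ) (A : Type u) [CommRing A] (p : ℕ) :
    ∃ L : (CohB1.ProjSpace n A).Modules, ExtPow.IsExtPow p (ΩP n A) L := by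
  haveI := isQCoh_omega n A
  exact FundLocal.ExtPowExists.exists_isExtPow (ΩP n A) p

/-- `H^q(Ω^p(d)) = 0` for `q > 0`, `d > 0`. -/
theorem subsingleton_pos {d : ℤ} (hd : 0 < d) (p : ℕ) {L : (CohB1.ProjSpace n A).Modules}
    (hL : ExtPow.IsExtPow p (ΩP n A) L) {q : ℕ} (hq : 0 < q) :
    Subsingleton (Coh.HH ℙ (CohB1.tensorMod L (tw n A d)) q) := by
  suffices H : ∀ (m p : ℕ), n + 1 ≤ p + m → ∀ (L : (CohB1.ProjSpace n A).Modules),
      ExtPow.IsExtPow p (ΩP n A) L → ∀ q, 0 < q →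
        Subsingleton (Coh.HH ℙ (CohB1.tensorMod L (tw n A d)) q) from H (n + 1) p (by omega) L hL q hq
  intro m
  induction m with
  | zero => exact fun p hp L hL q _ => subsingleton_of_gt n A (by omega) hL d q
  | succ m ih =>
    intro p hp L hL q hq
    by_cases hpn : n < p
    · exact subsingleton_of_gt n A hpn hL d q
    obtain ⟨L', hL'⟩ := exists_pow n A (p + 1)
    obtain ⟨S, hS, h1, h3, ⟨i⟩⟩ := exists_shortExact_extPow hL' hL d
    rw [← h3]
    refine subsingleton_of_forall_eq 0 fun x => ?_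
    haveI : Subsingleton (Coh.HH ℙ S.X₁ (q + 1)) := h1 ▸ ih (p + 1) (by omega) L' hL' (q + 1) (by omega)
    haveI : Subsingleton (Coh.HH ℙ S.X₂ q) :=
      haveI := subsingleton_sumTS (n := n) (A := A) ((n + 1).choose (p + 1)) (d - (p + 1 : ℕ)) q
        (by omega) (by omega)
      (isoK A i q).injective.subsingleton
    obtain ⟨y, rfl⟩ := (exactK₃ A hS q (q + 1) rfl x).1 (Subsingleton.elim _ _)
    rw [Subsingleton.elim y 0, map_zero]

/-- `H^q(Ω^p(d)) = 0` for `q < n`, `d < 0`. -/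
theorem subsingleton_neg {d : ℤ} (hd : d < 0) : ∀ (p : ℕ) (L : (CohB1.ProjSpace n A).Modules),
    ExtPow.IsExtPow p (ΩP n A) L → ∀ q, q < n →
      Subsingleton (Coh.HH ℙ (CohB1.tensorMod L (tw n A d)) q) := by
  intro p
  induction p with
  | zero =>
    intro L hL q hq
    obtain ⟨e⟩ := FreePow.nonempty_iso_zero hL
    haveI : Subsingleton (Coh.HH ℙ (tw n A d) q) := Groth.Agent.S0844.result A n d q (by omega) (by omega)
    exact (isoK A (tensorIso e.symm (Iso.refl _) ≪≫ leftUnit (tw n A d)) q).injective.subsingleton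
  | succ p ih =>
    intro L hL q hq
    obtain ⟨L', hL'⟩ := exists_pow n A p
    obtain ⟨S, hS, h1, h3, ⟨i⟩⟩ := exists_shortExact_extPow hL hL' d
    rw [← h1]
    haveI : Subsingleton (Coh.HH ℙ S.X₂ q) :=
      haveI := subsingleton_sumTS (n := n) (A := A) ((n + 1).choose (p + 1)) (d - (p + 1 : ℕ)) q
        (by omega) (by omega)
      (isoK A i q).injective.subsingleton
    cases q with
    | zero =>
      haveI := hS.mono_f
      exact (Curves.LES.mapK_injective_of_mono A S.f).subsingleton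
    | succ q =>
      haveI : Subsingleton (Coh.HH ℙ S.X₃ q) := h3 ▸ ih L' hL' q (by omega)
      refine subsingleton_of_forall_eq 0 fun x => ?_
      obtain ⟨y, rfl⟩ := (exactK₁ A hS q (q + 1) rfl x).1 (Subsingleton.elim _ _)
      rw [Subsingleton.elim y 0, map_zero]

/-- The cohomology of `Ω^p`: connecting maps `H^q(Ω^p) → H^{q+1}(Ω^{p+1})` are bijective. -/
theorem nonempty_step {p : ℕ} (hp : p < n) {L L' : (CohB1.ProjSpace n A).Modules}
    (hL : ExtPow.IsExtPow (p + 1) (ΩP n A) L) (hL' : ExtPow.IsExtPow p (ΩP n A) L') :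
    Subsingleton (Coh.HH ℙ L 0) ∧ ∀ q, Nonempty (Coh.HH ℙ L' q ≃ₗ[A] Coh.HH ℙ L (q + 1)) := by
  obtain ⟨S, hS, h1, h3, ⟨i⟩⟩ := exists_shortExact_extPow hL hL' 0
  have h2 : ∀ q, Subsingleton (Coh.HH ℙ S.X₂ q) := fun q =>
    haveI := subsingleton_sumTS (n := n) (A := A) ((n + 1).choose (p + 1)) ((0 : ℤ) - (p + 1 : ℕ)) q
      (by omega) (by omega)
    (isoK A i q).injective.subsingleton
  have a1 : S.X₁ ≅ L := eqToIso h1 ≪≫ tensorIso (Iso.refl _) (twZero (n := n) (R := A)) ≪≫ rightUnit L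
  have a3 : S.X₃ ≅ L' := eqToIso h3 ≪≫ tensorIso (Iso.refl _) (twZero (n := n) (R := A)) ≪≫ rightUnit L'
  constructor
  · haveI := hS.mono_f
    haveI := h2 0
    haveI : Subsingleton (Coh.HH ℙ S.X₁ 0) := (Curves.LES.mapK_injective_of_mono A S.f).subsingleton
    exact (isoK A a1 0).symm.injective.subsingleton
  · intro q
    have hb : Function.Bijective (δK A hS q (q + 1) rfl) := by
      refine ⟨(injective_iff_map_eq_zero _).2 fun x hx => ?_, fun y => ?_⟩
      · obtain ⟨z, rfl⟩ := (exactK₃ A hS q (q + 1) rfl x).1 hx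
        rw [(h2 q).elim z 0, map_zero]
      · exact (exactK₁ A hS q (q + 1) rfl y).1 ((h2 (q + 1)).elim _ _)
    exact ⟨(isoK A a3 q).symm ≪≫ₗ LinearEquiv.ofBijective _ hb ≪≫ₗ isoK A a1 (q + 1)⟩

/-- `H^q(Ω^p)` vanishes off the diagonal. -/
theorem subsingleton_zero : ∀ (p : ℕ) (L : (CohB1.ProjSpace n A).Modules),
    ExtPow.IsExtPow p (ΩP n A) L → ∀ q, (p ≠ q ∨ n < p) → Subsingleton (Coh.HH ℙ L q) := by
  intro p
  induction p with
  | zero =>
    intro L hL q hq
    obtain ⟨e⟩ := FreePow.nonempty_iso_zero hL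
    haveI := ProjCoh.Twist.subsingleton_HH_structureModule n A (q := q) (by omega)
    exact (isoK A e q).symm.injective.subsingleton
  | succ p ih =>
    intro L hL q hq
    by_cases hpn : n < p + 1
    · exact subsingleton_of_isZero (A := A) (FreePow.isZero (rank_omega n A) hpn hL) q
    obtain ⟨L', hL'⟩ := exists_pow n A p
    obtain ⟨h0, h⟩ := nonempty_step (by omega) hL hL'
    cases q with
    | zero => exact h0
    | succ q =>
      obtain ⟨e⟩ := h q
      haveI := ih L' hL' q (by omega)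
      exact e.symm.injective.subsingleton

/-- `H^p(Ω^p) ≅ A`. -/
theorem nonempty_diag : ∀ (p : ℕ), p ≤ n → ∀ (L : (CohB1.ProjSpace n A).Modules),
    ExtPow.IsExtPow p (ΩP n A) L → Nonempty (Coh.HH ℙ L p ≃ₗ[A] A) := by
  intro p
  induction p with
  | zero =>
    intro _ L hL
    obtain ⟨e⟩ := FreePow.nonempty_iso_zero hL
    obtain ⟨g⟩ := Groth.Agent.S0843.result A n 0
    exact ⟨(isoK A ((twZero (n := n) (R := A)) ≪≫ e) 0).symm ≪≫ₗ g ≪≫ₗ
      LinearEquiv.ofEq _ _ ((MvPolynomial.homogeneousSubmodule_zero (σ := Fin (n + 1)) (R := A)).trans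
        Submodule.one_eq_range) ≪≫ₗ
      (LinearEquiv.ofInjective (Algebra.linearMap A (MvPolynomial (Fin (n + 1)) A))
        (MvPolynomial.C_injective (Fin (n + 1)) A)).symm⟩
  | succ p ih =>
    intro hp L hL
    obtain ⟨L', hL'⟩ := exists_pow n A p
    obtain ⟨-, h⟩ := nonempty_step (by omega) hL hL'
    obtain ⟨e⟩ := h p
    obtain ⟨g⟩ := ih (by omega) L' hL'
    exact ⟨e.symm ≪≫ₗ g⟩

end Groth.Agent.Lib.Bott.Coh
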