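import Mathlib.LinearAlgebra.ExteriorPower.Basic
import Mathlib.LinearAlgebra.ExteriorAlgebra.Basic
import Mathlib.LinearAlgebra.CliffordAlgebra.Contraction

/-!
# The short exact sequence `0 → ⋀^{n+1} F → ⋀^{n+1} M → ⋀^n F → 0` of a split surjection `g : M → R`
-/

set_option autoImplicit false
universe u

open ExteriorAlgebra

noncomputable section

namespace Groth.Agent.Lib.Bott.Contract

variable {R M : Type u} [CommRing R] [AddCommGroup M] [Module R M] (g : M →ₗ[R] R)

/-- Contraction on the exterior algebra. -/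
def κ : ExteriorAlgebra R M →ₗ[R] ExteriorAlgebra R M :=
  CliffordAlgebra.contractLeft (Q := (0 : QuadraticForm R M)) g

theorem κ_ι_mul (a : M) (b : ExteriorAlgebra R M) :
    κ g (ExteriorAlgebra.ι R a * b) = g a • b - ExteriorAlgebra.ι R a * κ g b :=
  CliffordAlgebra.contractLeft_ι_mul g a b

theorem κ_ιMulti_mem : ∀ {n : ℕ} (v : Fin n → M),
    κ g (ExteriorAlgebra.ιMulti R n v) ∈ ⋀[R]^(n - 1) M := by
  intro n
  induction n with
  | zero =>
    intro v
    rw [ExteriorAlgebra.ιMulti_apply, List.ofFn_zero, List.prod_nil]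
    convert Submodule.zero_mem (⋀[R]^(0 - 1) M)
    exact CliffordAlgebra.contractLeft_one (Q := (0 : QuadraticForm R M)) g
  | succ n ih =>
    intro v
    rw [ExteriorAlgebra.ιMulti_succ_apply, κ_ι_mul, Nat.add_sub_cancel]
    refine Submodule.sub_mem _ (Submodule.smul_mem _ _ (ExteriorAlgebra.ιMulti_range R n ⟨_, rfl⟩)) ?_
    cases n with
    | zero =>
      convert Submodule.zero_mem (⋀[R]^0 M)
      rw [ExteriorAlgebra.ιMulti_apply, List.ofFn_zero, List.prod_nil]
      exact (congrArg (ExteriorAlgebra.ι R (v 0) * ·) (CliffordAlgebra.contractLeft_one (Q := (0 : QuadraticForm R M)) g)).trans (mul_zero _)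
    | succ n =>
      rw [show ⋀[R]^(n + 1) M = (LinearMap.range (ExteriorAlgebra.ι R : M →ₗ[R] _)) *
        ⋀[R]^n M from pow_succ' _ _]
      exact Submodule.mul_mem_mul ⟨_, rfl⟩ (by simpa using ih (Matrix.vecTail v))

variable (n : ℕ)

/-- Contraction `⋀^{n+1} M → ⋀^n M`. -/
def contr : ⋀[R]^(n + 1) M →ₗ[R] ⋀[R]^n M :=
  LinearMap.codRestrict _ ((κ g).domRestrict _) fun x => by
    have hx : (x : ExteriorAlgebra R M) ∈ Submodule.span R (Set.range (ExteriorAlgebra.ιMulti R (n + 1))) := by
      rw [ExteriorAlgebra.ιMulti_span_fixedDegree]; exact x.2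
    rw [LinearMap.domRestrict_apply]
    generalize (x : ExteriorAlgebra R M) = y at hx ⊢
    induction hx using Submodule.span_induction with
    | mem t ht => obtain ⟨v, rfl⟩ := ht; exact κ_ιMulti_mem g v
    | zero => rw [map_zero]; exact Submodule.zero_mem _
    | add a b _ _ ha hb => rw [map_add]; exact Submodule.add_mem _ ha hb
    | smul c a _ ha => rw [map_smul]; exact Submodule.smul_mem _ _ ha

@[simp] theorem contr_val (x : ⋀[R]^(n + 1) M) : (contr g n x : ExteriorAlgebra R M) = κ g x := rfl

theorem contr_ιMulti_eq (v : Fin (n + 1) → M) :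
    (contr g n (exteriorPower.ιMulti R (n + 1) v) : ExteriorAlgebra R M) =
      κ g (ExteriorAlgebra.ιMulti R (n + 1) v) := rfl

/-- Naturality of contraction in semilinear situations is checked on generators. -/
theorem contr_cons (a : M) (v : Fin n → M) :
    (contr g n (exteriorPower.ιMulti R (n + 1) (Matrix.vecCons a v)) : ExteriorAlgebra R M) =
      g a • ExteriorAlgebra.ιMulti R n v - ExteriorAlgebra.ι R a * κ g (ExteriorAlgebra.ιMulti R n v) := by
  rw [contr_ιMulti_eq, ExteriorAlgebra.ιMulti_succ_apply, Matrix.cons_val_zero, κ_ι_mul]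
  rfl

variable {F : Type u} [AddCommGroup F] [Module R F] (i : F →ₗ[R] M)

theorem κ_map (h : ∀ x, g (i x) = 0) (x : ExteriorAlgebra R F) : κ g (ExteriorAlgebra.map i x) = 0 := by
  induction x using CliffordAlgebra.left_induction with
  | algebraMap r => rw [AlgHom.commutes]; exact CliffordAlgebra.contractLeft_algebraMap (Q := (0 : QuadraticForm R M)) g r
  | add a b ha hb => rw [map_add, map_add, ha, hb, add_zero]
  | ι_mul x v hx =>
    rw [map_mul, show ExteriorAlgebra.map i (CliffordAlgebra.ι (0 : QuadraticForm R F) v) =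
      ExteriorAlgebra.ι R (i v) from ExteriorAlgebra.map_apply_ι i v, κ_ι_mul, h, zero_smul, hx, mul_zero,
      sub_zero]

variable (π : M →ₗ[R] F) (s : M)

/-- The homotopy identity. -/
theorem decomp (hπ : ∀ v, i (π v) + g v • s = v) (x : ExteriorAlgebra R M) :
    x = ExteriorAlgebra.map i (ExteriorAlgebra.map π x) +
      ExteriorAlgebra.ι R s * ExteriorAlgebra.map i (ExteriorAlgebra.map π (κ g x)) := by
  induction x using CliffordAlgebra.left_induction with
  | algebraMap r =>
    rw [show κ g (algebraMap R (ExteriorAlgebra R M) r) = 0 from CliffordAlgebra.contractLeft_algebraMap (Q := (0 : QuadraticForm R M)) g r]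
    simp only [AlgHom.commutes, map_zero, mul_zero, add_zero]
  | add a b ha hb =>
    simp only [map_add, mul_add]
    conv_lhs => rw [ha, hb]
    abel
  | ι_mul x v hx =>
    change ExteriorAlgebra.ι R v * x = _
    rw [show CliffordAlgebra.ι (0 : QuadraticForm R M) v = ExteriorAlgebra.ι R v from rfl, κ_ι_mul]
    set P : ExteriorAlgebra R M →ₐ[R] ExteriorAlgebra R M :=
      (ExteriorAlgebra.map i).comp (ExteriorAlgebra.map π) with hP
    have hPι : P (ExteriorAlgebra.ι R v) = ExteriorAlgebra.ι R (i (π v)) := by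
      simp [hP, AlgHom.comp_apply]
    change ExteriorAlgebra.ι R v * x = P (ExteriorAlgebra.ι R v * x) +
      ExteriorAlgebra.ι R s * P (g v • x - ExteriorAlgebra.ι R v * κ g x)
    have hx' : x = P x + ExteriorAlgebra.ι R s * P (κ g x) := hx
    simp only [map_mul, map_sub, map_smul, hPι, mul_sub, mul_smul_comm]
    set w := ExteriorAlgebra.ι R (i (π v))
    have hv : ExteriorAlgebra.ι R v = w + g v • ExteriorAlgebra.ι R s := by
      rw [← map_smul, ← map_add, hπ]
    have hanti : w * ExteriorAlgebra.ι R s = - (ExteriorAlgebra.ι R s * w) :=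
      eq_neg_of_add_eq_zero_left (ExteriorAlgebra.ι_add_mul_swap _ _)
    conv_lhs => rw [hv, hx', add_mul, mul_add, smul_mul_assoc, mul_add]
    rw [← mul_assoc w, hanti, ← mul_assoc (ExteriorAlgebra.ι R s) (ExteriorAlgebra.ι R s),
      ExteriorAlgebra.ι_sq_zero, zero_mul, add_zero, neg_mul, ← mul_assoc (ExteriorAlgebra.ι R s) w]
    abel

omit [AddCommGroup F] [Module R F] in
theorem map_val {N : Type u} [AddCommGroup N] [Module R N] (f : M →ₗ[R] N) (m : ℕ) (x : ⋀[R]^m M) :
    (exteriorPower.map m f x : ExteriorAlgebra R N) = ExteriorAlgebra.map f (x : ExteriorAlgebra R M) := by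
  have hx : x ∈ Submodule.span R (Set.range (exteriorPower.ιMulti R m (M := M))) := by
    rw [exteriorPower.ιMulti_span]; trivial
  induction hx using Submodule.span_induction with
  | mem t ht =>
    obtain ⟨v, rfl⟩ := ht
    rw [exteriorPower.map_apply_ιMulti, exteriorPower.ιMulti_apply_coe, exteriorPower.ιMulti_apply_coe,
      ExteriorAlgebra.map_apply_ιMulti]
  | zero => simp
  | add a b _ _ ha hb => simp [ha, hb]
  | smul c a _ ha => simp [ha]

/-- The three statements on sections. -/
theorem exact_and_surjective (hgi : ∀ x, g (i x) = 0) (hπi : ∀ x, π (i x) = x) (hπ : ∀ v, i (π v) + g v • s = v)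
    (hgs : g s = 1) :
    Function.Injective (exteriorPower.map (n + 1) i) ∧
    (∀ x, contr g n x = exteriorPower.map n i (exteriorPower.map n π (contr g n x))) ∧
    Function.Exact (exteriorPower.map (n + 1) i) ((exteriorPower.map n π).comp (contr g n)) ∧
    Function.Surjective ((exteriorPower.map n π).comp (contr g n)) := by
  have hπi' : π.comp i = LinearMap.id := LinearMap.ext hπi
  have hinj : ∀ m, Function.LeftInverse (exteriorPower.map m π) (exteriorPower.map m i) := fun m x => by
    rw [← LinearMap.comp_apply, ← exteriorPower.map_comp, hπi', exteriorPower.map_id, LinearMap.id_apply]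
  have hM : ∀ x : ExteriorAlgebra R F, ExteriorAlgebra.map π (ExteriorAlgebra.map i x) = x := fun x => by
    rw [← AlgHom.comp_apply, ExteriorAlgebra.map_comp_map, hπi', ExteriorAlgebra.map_id, AlgHom.id_apply]
  have hκ : ∀ x : ExteriorAlgebra R M, κ g x =
      ExteriorAlgebra.map i (ExteriorAlgebra.map π (κ g x)) := fun x => by
    conv_lhs => rw [decomp g i π s hπ x]
    rw [map_add, κ_map g i hgi, κ_ι_mul, hgs, one_smul, κ_map g i hgi, mul_zero, sub_zero, zero_add]
  refine ⟨(hinj _).injective, fun x => Subtype.ext ?_, fun x => ⟨fun hx => ?_, ?_⟩, fun z => ?_⟩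
  · rw [map_val, map_val, contr_val]
    exact hκ _
  · refine ⟨exteriorPower.map (n + 1) π x, Subtype.ext ?_⟩
    rw [map_val, map_val]
    have h0 : ExteriorAlgebra.map π (κ g (x : ExteriorAlgebra R M)) = 0 := by
      have := congrArg Subtype.val hx
      rwa [LinearMap.comp_apply, map_val, contr_val] at this
    conv_rhs => rw [decomp g i π s hπ (x : ExteriorAlgebra R M), h0, map_zero, mul_zero, add_zero]
  · rintro ⟨y, rfl⟩
    refine Subtype.ext ?_
    rw [LinearMap.comp_apply, map_val, contr_val, map_val, κ_map g i hgi, map_zero]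
    rfl
  · have hmem : ExteriorAlgebra.ι R s * ExteriorAlgebra.map i (z : ExteriorAlgebra R F) ∈ ⋀[R]^(n + 1) M := by
      rw [show ⋀[R]^(n + 1) M = (LinearMap.range (ExteriorAlgebra.ι R : M →ₗ[R] _)) * ⋀[R]^n M from
        pow_succ' _ _, ← map_val]
      exact Submodule.mul_mem_mul ⟨_, rfl⟩ (exteriorPower.map n i z).2
    refine ⟨⟨_, hmem⟩, Subtype.ext ?_⟩
    rw [LinearMap.comp_apply, map_val, contr_val]
    rw [κ_ι_mul, hgs, one_smul, κ_map g i hgi, mul_zero, sub_zero, hM]

end Groth.Agent.Lib.Bott.Contract
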