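import Groth.Agent.Lib.Bott.Coh
import Mathlib.Data.Nat.Choose.Cast

/-!
# Bott's formula on projective space over a field
-/

set_option autoImplicit false
set_option linter.style.haveILetI false
universe u

open CategoryTheory CategoryTheory.Limits AlgebraicGeometry Opposite TopologicalSpace

noncomputable section

namespace Groth.Agent.Lib.Bott.Dim

open Groth.Agent.Lib Groth.Agent.Lib.TensorMod.Basic Groth.Agent.Lib.Bott.Euler
open Groth.Agent.Lib.ProjCoh.Coherent
open Groth.Agent.Lib.ProjCoh.Sections (TS)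
open Groth.Agent.Lib.Curves.LES (mapK δK isoK exactK₁ exactK₂ exactK₃)

/-- The Pascal-type identity behind Bott's formula. -/
theorem choose_identity (p m d : ℕ) (hd : p + 1 ≤ d) :
    (d + m).choose d * (d - 1).choose (p + 1) + (d + m + 1).choose d * (d - 1).choose p =
      (p + m + 2).choose (p + 1) * (d + m).choose (p + m + 1) := by
  obtain ⟨a, rfl⟩ := Nat.exists_eq_add_of_le hd
  have e1 : (p + 1 + a - 1) = p + a := by omega
  have h1 : (p + 1 + a + m + 1).choose (p + 1 + a) * (m + 1) =
      (p + 1 + a + m).choose (p + 1 + a) * (p + 1 + a + m + 1) := by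
    have := Nat.choose_mul_succ_eq (p + 1 + a + m) (p + 1 + a)
    rw [show p + 1 + a + m + 1 - (p + 1 + a) = m + 1 by omega] at this
    exact this.symm
  have h2 : (p + a).choose (p + 1) * (p + 1) = (p + a).choose p * a := by
    have := Nat.choose_succ_right_eq (p + a) p
    rwa [show p + a - p = a by omega] at this
  rw [e1]
  refine Nat.eq_of_mul_eq_mul_right (show 0 < (p + 1) * (m + 1) by positivity) ?_
  have lhs : ((p + 1 + a + m).choose (p + 1 + a) * (p + a).choose (p + 1) +
      (p + 1 + a + m + 1).choose (p + 1 + a) * (p + a).choose p) * ((p + 1) * (m + 1)) =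
      (p + 1 + a + m).choose (p + 1 + a) * (p + a).choose p * ((p + 1 + a) * (p + m + 2)) := by
    calc _ = (p + 1 + a + m).choose (p + 1 + a) * ((p + a).choose (p + 1) * (p + 1)) * (m + 1) +
        ((p + 1 + a + m + 1).choose (p + 1 + a) * (m + 1)) * (p + a).choose p * (p + 1) := by ring
      _ = _ := by rw [h1, h2]; ring
  rw [lhs]
  have f1 := Nat.choose_mul_factorial_mul_factorial (show p + 1 + a ≤ p + 1 + a + m by omega)
  have f2 := Nat.choose_mul_factorial_mul_factorial (show p ≤ p + a by omega)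
  have f3 := Nat.choose_mul_factorial_mul_factorial (show p + 1 ≤ p + m + 2 by omega)
  have f4 := Nat.choose_mul_factorial_mul_factorial (show p + m + 1 ≤ p + 1 + a + m by omega)
  rw [show p + 1 + a + m - (p + 1 + a) = m by omega] at f1
  rw [show p + a - p = a by omega] at f2
  rw [show p + m + 2 - (p + 1) = m + 1 by omega] at f3
  rw [show p + 1 + a + m - (p + m + 1) = a by omega] at f4
  rw [show (p + 1 + a).factorial = (p + 1 + a) * (p + a).factorial by
    rw [show p + 1 + a = p + a + 1 by omega, Nat.factorial_succ]] at f1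
  rw [show (p + m + 2).factorial = (p + m + 2) * (p + m + 1).factorial from Nat.factorial_succ (p + m + 1),
    Nat.factorial_succ p, Nat.factorial_succ m] at f3
  refine Nat.eq_of_mul_eq_mul_right
    (show 0 < Nat.factorial p * Nat.factorial m * Nat.factorial a * Nat.factorial (p + m + 1) by positivity) ?_
  generalize (p + 1 + a + m).choose (p + 1 + a) = c1 at *
  generalize (p + a).choose p = c2 at *
  generalize (p + m + 2).choose (p + 1) = c3 at *
  generalize (p + 1 + a + m).choose (p + m + 1) = c4 at *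
  generalize (p + a).factorial = Fa at *
  generalize (p + 1 + a + m).factorial = Fd at *
  generalize (p + m + 1).factorial = Fn at *
  calc c1 * c2 * ((p + 1 + a) * (p + m + 2)) * (p.factorial * m.factorial * a.factorial * Fn)
      = (c2 * p.factorial * a.factorial) * ((p + m + 2) * Fn) * (c1 * (p + 1 + a)) * m.factorial := by ring
    _ = ((p + m + 2) * Fn) * (c1 * ((p + 1 + a) * Fa) * m.factorial) := by rw [f2]; ring
    _ = ((p + m + 2) * Fn) * (c4 * Fn * a.factorial) := by rw [f1, f4]
    _ = (c3 * ((p + 1) * p.factorial) * ((m + 1) * m.factorial)) * (c4 * Fn * a.factorial) := by rw [f3]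
    _ = _ := by ring

variable {n : ℕ} {k : Type u} [Field k]

local notation "ℙ" => CohB1.ProjSpace n k

theorem finrank_homog (r m : ℕ) :
    Module.finrank k ↥(MvPolynomial.homogeneousSubmodule (Fin (r + 1)) k m) = (r + m).choose r := by
  rw [(H66.Cot.finrank_homogeneous (r + 1) m).2, show r + 1 + m - 1 = r + m by omega,
    Nat.choose_symm_add]

/-- Cohomology of a sum of twists. -/
theorem finrank_sumTS (c : ℕ) (a : ℤ) (q : ℕ) :
    Module.finrank k (Coh.HH ℙ (sumTS n k c a) q) = c * Module.finrank k (Coh.HH ℙ (tw n k a) q) := by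
  classical
  haveI := ProjCoh.Twist.finite_HH n k a q
  let T := TS n k a
  let ι' : Fin c → (T ⟶ sumTS n k c a) := fun i => Sigma.ι (fun _ : Fin c => T) i
  let π : Fin c → (sumTS n k c a ⟶ T) := fun i => Sigma.desc fun j => if j = i then 𝟙 T else 0
  let f : (Fin c → Coh.HH ℙ T q) →ₗ[k] Coh.HH ℙ (sumTS n k c a) q :=
    ∑ i, (mapK k (ι' i) q).comp (LinearMap.proj i)
  have hf : ∀ y, f y = ∑ i, mapK k (ι' i) q (y i) := fun y => by
    simp only [f, LinearMap.coe_sum, Finset.sum_apply, LinearMap.comp_apply, LinearMap.proj_apply]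
  have hs : Function.Surjective f := fun x => by
    obtain ⟨y, hy⟩ := sigma_decomp k T c q x
    exact ⟨y, (hf y).trans hy⟩
  have hzero : mapK k (0 : T ⟶ T) q = 0 := LinearMap.ext fun x => by
    have := mapK_add k (0 : T ⟶ T) 0 q x
    rw [add_zero] at this
    exact left_eq_add.1 this
  have hi : Function.Injective f := Function.LeftInverse.injective (g := fun x i => mapK k (π i) q x) fun y => by
    funext j
    show mapK k (π j) q (f y) = y j
    rw [hf, map_sum, Finset.sum_eq_single j]
    · rw [← LinearMap.comp_apply, ← Curves.LES.mapK_comp, show ι' j ≫ π j = 𝟙 T from (Sigma.ι_desc _ _).trans (if_pos rfl),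
        Curves.LES.mapK_id]
      rfl
    · intro b _ hb
      rw [← LinearMap.comp_apply, ← Curves.LES.mapK_comp, show ι' b ≫ π j = 0 from (Sigma.ι_desc _ _).trans (if_neg hb),
        hzero]
      rfl
    · exact fun h => absurd (Finset.mem_univ _) h
  rw [← (LinearEquiv.ofBijective f ⟨hi, hs⟩).finrank_eq, Module.finrank_pi_fintype, Finset.sum_const,
    Finset.card_univ, Fintype.card_fin, smul_eq_mul]
  exact congrArg (c * ·) (isoK k (twIso (n := n) (R := k) a) q).finrank_eq.symm

theorem finrank_h0_tw (a : ℕ) : Module.finrank k (Coh.HH ℙ (tw n k (a : ℤ)) 0) = (n + a).choose n := by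
  obtain ⟨e⟩ := Groth.Agent.S0843.result k n a
  exact e.finrank_eq.trans (finrank_homog n a)

theorem finrank_top_tw (e : ℕ) (he : 1 ≤ e) :
    Module.finrank k (Coh.HH ℙ (tw n k (-(e : ℤ))) n) = (e - 1).choose n := by
  by_cases h : n + 1 ≤ e
  · obtain ⟨c, rfl⟩ := Nat.exists_eq_add_of_le h
    obtain ⟨g⟩ := Groth.Agent.S0845.result k n c
    rw [show (n + 1 + c - 1) = n + c by omega, ← finrank_homog (k := k) n c, ← g.finrank_eq]
    push_cast
    rfl
  · haveI : Subsingleton (Coh.HH ℙ (tw n k (-(e : ℤ))) n) :=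
      Groth.Agent.S0844.result k n _ n (by omega) (by omega)
    rw [Module.finrank_zero_of_subsingleton, Nat.choose_eq_zero_of_lt (by omega)]

theorem finrank_zero_pow {L : (CohB1.ProjSpace n k).Modules} (hL : ExtPow.IsExtPow 0 (ΩP n k) L) (d : ℤ)
    (q : ℕ) : Module.finrank k (Coh.HH ℙ (CohB1.tensorMod L (tw n k d)) q) =
      Module.finrank k (Coh.HH ℙ (tw n k d) q) := by
  obtain ⟨e⟩ := FreePow.nonempty_iso_zero hL
  exact (isoK k (tensorIso e.symm (Iso.refl _) ≪≫ leftUnit (tw n k d)) q).finrank_eq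

theorem finite_pow {p : ℕ} {L : (CohB1.ProjSpace n k).Modules} (hL : ExtPow.IsExtPow p (ΩP n k) L)
    (d : ℤ) (q : ℕ) : Module.Finite k (Coh.HH ℙ (CohB1.tensorMod L (tw n k d)) q) :=
  ProjCoh.Coherent.finite_HH _ (isCoh_tensorMod
    (Perfect.Coherent.isCoh_of_isFinLocFree (GrassGen.ExtPowFree.isFinLocFree
      (TensorMod.LocFree.of_rank (rank_omega n k)) hL)) (isCoh_tw d)) q

/-- Bott's formula for `H^0(Ω^p(d))`, `d ≥ 1`. -/
theorem finrank_h0 {d : ℕ} (hd : 1 ≤ d) : ∀ (p : ℕ) (L : (CohB1.ProjSpace n k).Modules),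
    ExtPow.IsExtPow p (ΩP n k) L →
      Module.finrank k (Coh.HH ℙ (CohB1.tensorMod L (tw n k (d : ℤ))) 0) =
        (d + n - p).choose d * (d - 1).choose p := by
  intro p
  induction p with
  | zero =>
    intro L hL
    rw [finrank_zero_pow hL, finrank_h0_tw, Nat.sub_zero, Nat.choose_zero_right, mul_one,
      add_comm d n, ← Nat.choose_symm_add]
  | succ p ih =>
    intro L hL
    by_cases hpn : n < p + 1
    · haveI := Coh.subsingleton_of_gt n k hpn hL (d : ℤ) 0
      rw [Module.finrank_zero_of_subsingleton, Nat.choose_eq_zero_of_lt (show d + n - (p + 1) < d by omega),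
        zero_mul]
    obtain ⟨L', hL'⟩ := Coh.exists_pow n k p
    obtain ⟨S, hS, h1, h3, ⟨i⟩⟩ := exists_shortExact_extPow hL hL' (d : ℤ)
    haveI : Module.Finite k (Coh.HH ℙ S.X₂ 0) :=
      haveI := finite_HH_sumTS (n := n) (R := k) ((n + 1).choose (p + 1)) ((d : ℤ) - (p + 1 : ℕ)) 0
      Module.Finite.equiv (isoK k i 0).symm
    haveI : Subsingleton (Coh.HH ℙ S.X₁ 1) := h1 ▸ Coh.subsingleton_pos (by omega) (p + 1) hL one_pos
    haveI := hS.mono_f
    have hg : Function.Surjective (mapK k S.g 0) := fun y =>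
      (exactK₃ k hS 0 1 rfl y).1 (Subsingleton.elim _ _)
    have hsum := (mapK k S.g 0).finrank_range_add_finrank_ker
    rw [LinearMap.range_eq_top.2 hg, finrank_top, LinearMap.exact_iff.1 (exactK₂ k hS 0),
      LinearMap.finrank_range_of_inj (Curves.LES.mapK_injective_of_mono k S.f), (isoK k i 0).finrank_eq,
      finrank_sumTS, h1, h3, ih L' hL'] at hsum
    obtain ⟨m, hm⟩ : ∃ m, n = p + 1 + m := ⟨n - (p + 1), by omega⟩
    by_cases hpd : p + 1 ≤ d
    · have key := choose_identity p m d hpd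
      rw [show d + m + 1 = d + n - p by omega, show d + m = d + n - (p + 1) by omega,
        show p + m + 2 = n + 1 by omega, show p + m + 1 = n by omega] at key
      rw [show (d : ℤ) - ((p + 1 : ℕ) : ℤ) = ((d - (p + 1) : ℕ) : ℤ) by omega, finrank_h0_tw,
        show n + (d - (p + 1)) = d + n - (p + 1) by omega] at hsum
      omega
    · haveI : Subsingleton (Coh.HH ℙ (tw n k ((d : ℤ) - (p + 1 : ℕ))) 0) :=
        Groth.Agent.S0844.result k _ _ 0 (by omega) (by omega)
      rw [Module.finrank_zero_of_subsingleton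
        (M := Coh.HH ℙ (tw n k ((d : ℤ) - (p + 1 : ℕ))) 0), mul_zero] at hsum
      rw [Nat.choose_eq_zero_of_lt (show d - 1 < p + 1 by omega), mul_zero]
      omega

/-- Bott's formula for `H^n(Ω^p(-e))`, `e ≥ 1`. -/
theorem finrank_top_coh {e : ℕ} (he : 1 ≤ e) : ∀ (p : ℕ), p ≤ n → ∀ (L : (CohB1.ProjSpace n k).Modules),
    ExtPow.IsExtPow p (ΩP n k) L →
      Module.finrank k (Coh.HH ℙ (CohB1.tensorMod L (tw n k (-(e : ℤ)))) n) =
        (e + p).choose e * (e - 1).choose (n - p) := by
  intro p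
  induction p with
  | zero =>
    intro _ L hL
    rw [finrank_zero_pow hL, finrank_top_tw e he, Nat.add_zero, Nat.choose_self, one_mul, Nat.sub_zero]
  | succ p ih =>
    intro hp L hL
    obtain ⟨L', hL'⟩ := Coh.exists_pow n k p
    obtain ⟨S, hS, h1, h3, ⟨i⟩⟩ := exists_shortExact_extPow hL hL' (-(e : ℤ))
    obtain ⟨r, rfl⟩ : ∃ r, n = r + 1 := ⟨n - 1, by omega⟩
    haveI : Module.Finite k (Coh.HH (CohB1.ProjSpace (r + 1) k) S.X₂ (r + 1)) :=
      haveI := finite_HH_sumTS (n := r + 1) (R := k) ((r + 1 + 1).choose (p + 1)) (-(e : ℤ) - (p + 1 : ℕ)) (r + 1)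
      Module.Finite.equiv (isoK k i (r + 1)).symm
    haveI : Subsingleton (Coh.HH (CohB1.ProjSpace (r + 1) k) S.X₃ r) :=
      h3 ▸ Coh.subsingleton_neg (by omega) p L' hL' r (by omega)
    haveI : Subsingleton (Coh.HH (CohB1.ProjSpace (r + 1) k) S.X₁ (r + 1 + 1)) := by
      haveI : Coh.IsQCoh S.X₁ := h1 ▸ (isCoh_tensorMod (Perfect.Coherent.isCoh_of_isFinLocFree
        (GrassGen.ExtPowFree.isFinLocFree (TensorMod.LocFree.of_rank (rank_omega (r + 1) k)) hL)) (isCoh_tw _)).1
      exact ProjCoh.Twist.subsingleton_HH_of_lt _ (by omega)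
    have hinj : Function.Injective (mapK k S.f (r + 1)) := by
      refine (injective_iff_map_eq_zero _).2 fun x hx => ?_
      obtain ⟨y, rfl⟩ := (exactK₁ k hS r (r + 1) rfl x).1 hx
      rw [Subsingleton.elim y 0, map_zero]
    have hg : Function.Surjective (mapK k S.g (r + 1)) := fun y =>
      (exactK₃ k hS (r + 1) (r + 1 + 1) rfl y).1 (Subsingleton.elim _ _)
    have hsum := (mapK k S.g (r + 1)).finrank_range_add_finrank_ker
    rw [LinearMap.range_eq_top.2 hg, finrank_top, LinearMap.exact_iff.1 (exactK₂ k hS (r + 1)),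
      LinearMap.finrank_range_of_inj hinj, (isoK k i (r + 1)).finrank_eq,
      finrank_sumTS, h1, h3, ih (by omega) L' hL',
      show -(e : ℤ) - ((p + 1 : ℕ) : ℤ) = -((e + (p + 1) : ℕ) : ℤ) by omega,
      finrank_top_tw (e + (p + 1)) (by omega)] at hsum
    obtain ⟨m, hm⟩ : ∃ m, r + 1 = p + 1 + m := ⟨r - p, by omega⟩
    rw [show r + 1 - p = m + 1 by omega, show e + (p + 1) - 1 = e + p by omega] at hsum
    rw [show r + 1 - (p + 1) = m by omega, show e + (p + 1) = e + p + 1 by omega]
    by_cases hme : m + 1 ≤ e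
    · have key := choose_identity m p e hme
      rw [show m + p + 2 = r + 1 + 1 by omega, show m + p + 1 = r + 1 by omega,
        Nat.choose_symm_of_eq_add (show r + 1 + 1 = (m + 1) + (p + 1) by omega)] at key
      omega
    · rw [Nat.choose_eq_zero_of_lt (show e + p < r + 1 by omega), mul_zero] at hsum
      rw [Nat.choose_eq_zero_of_lt (show e - 1 < m by omega), mul_zero]
      omega

end Groth.Agent.Lib.Bott.Dim
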