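import Groth.Agent.Lib.Bott.FreePow
import Groth.Agent.Lib.ProjSpace.Canonical
import Groth.Agent.Lib.ProjCoh.Coherent
import Groth.Agent.Lib.Modules.ExtPowTwist

/-!
# The Euler sequence of projective space and its exterior powers
-/

set_option autoImplicit false
set_option linter.style.haveILetI false
universe u

open CategoryTheory CategoryTheory.Limits AlgebraicGeometry Opposite TopologicalSpace

noncomputable section

namespace Groth.Agent.Lib.Bott.Euler

open Groth.Agent.Lib Groth.Agent.Lib.TensorMod.Basic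
open Groth.Agent.Lib.ProjCoh.Coherent

variable (n : ℕ) (A : Type u) [CommRing A]

/-- The sheaf of differentials. -/
abbrev ΩP : (CohB1.ProjSpace n A).Modules := Omega.sheaf (CohB1.ProjSpace.toSpec n A)

/-- `O(-1)^{n+1}`. -/
abbrev mid : (CohB1.ProjSpace n A).Modules :=
  CohB1.tensorMod (FlatMod.freeMod (CohB1.ProjSpace n A) (n + 1)) (tw n A (-1))

theorem rank_omega : FlatMod.IsFinLocFreeOfRank n (ΩP n A) := by
  haveI := ProjSpace.Basic.isProper_toSpec n A
  exact FundLocal.Rank.isFinLocFreeOfRank_omega (CohB1.ProjSpace.toSpec n A) n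

theorem isQCoh_omega : (ΩP n A).IsQuasicoherent :=
  CurveBundle.Coherent.isQCoh (TensorMod.LocFree.of_rank (rank_omega n A))

theorem isQCoh_mid : (mid n A).IsQuasicoherent := by
  haveI := CurveBundle.Coherent.isQCoh_freeMod (CohB1.ProjSpace n A) (n + 1)
  haveI := (isCoh_tw (n := n) (R := A) (-1)).1
  exact TensorMod.TensorQCoh.isQCoh_tensorMod _ _

/-- The Euler sequence. -/
theorem exists_shortExact :
    ∃ (ι : ΩP n A ⟶ mid n A) (γ : mid n A ⟶ Coh.structureModule (CohB1.ProjSpace n A)) (w : ι ≫ γ = 0),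
      (ShortComplex.mk ι γ w).ShortExact := by
  haveI := ProjSpace.Basic.isProper_toSpec n A
  let p := CohB1.ProjSpace.toSpec n A
  let O1 := Twist.twistProjSpace n A 1
  obtain ⟨q, hq⟩ := ProjSpace.IsBundle.exists_isProjBundle n A
  have hfree : (FlatMod.freeMod (Spec (CommRingCat.of A)) (n + 1)).IsQuasicoherent :=
    CurveBundle.Coherent.isQCoh_freeMod _ _
  haveI : Smooth p := SmoothOfRelativeDimension.smooth n p
  obtain ⟨e⟩ := EulerSeq.Map.nonempty_iso (q := q) (OmegaSh.dOmega p) hfree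
    (fun x => EulerSeq.Map.exists_frame hq (TensorMod.LocFree.of_rank
      (TensorMod.LocFree.isFinLocFree_freeMod _ _)) x) (Kaehler.DOmega.isUniversal_dOmega p) hq
  haveI : Epi q := hq.epi
  let S := ShortComplex.mk (e.hom ≫ kernel.ι q) q (by rw [Category.assoc, kernel.condition, comp_zero])
  have hS : S.ShortExact := by
    have h0 : (ShortComplex.mk (kernel.ι q) q (kernel.condition q)).ShortExact :=
      { exact := ShortComplex.exact_kernel q }
    let i : ShortComplex.mk (kernel.ι q) q (kernel.condition q) ≅ S :=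
      ShortComplex.isoMk e.symm (Iso.refl _) (Iso.refl _) (by simp [S]) (by simp [S])
    exact ShortComplex.shortExact_of_iso i h0
  let T := S.map (tensorBy (tw n A (-1)))
  have hT : T.ShortExact := shortExact_tw hS (-1)
  obtain ⟨iF⟩ := FreePow.nonempty_iso_of_isBasis (EulerSeq.Frame.isBasis_pbRes (π := p) hfree
    (isAffineOpen_top _) (ProjSpace.IsBundle.isBasis_e n A))
  let a₁ : T.X₁ ≅ ΩP n A :=
    assoc (ΩP n A) O1 (tw n A (-1)) ≪≫
      tensorIso (Iso.refl _) (twCancel (n := n) (R := A) 1 (-1) (by omega)) ≪≫ rightUnit _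
  let a₂ : T.X₂ ≅ mid n A := tensorIso iF.symm (Iso.refl _)
  let a₃ : T.X₃ ≅ Coh.structureModule (CohB1.ProjSpace n A) :=
    twCancel (n := n) (R := A) 1 (-1) (by omega)
  have w : (a₁.inv ≫ T.f ≫ a₂.hom) ≫ (a₂.inv ≫ T.g ≫ a₃.hom) = 0 := by simp
  refine ⟨a₁.inv ≫ T.f ≫ a₂.hom, a₂.inv ≫ T.g ≫ a₃.hom, w, ?_⟩
  exact ShortComplex.shortExact_of_iso
    (ShortComplex.isoMk a₁ a₂ a₃ (by simp) (by simp) :
      T ≅ ShortComplex.mk _ _ w) hT

theorem nonempty_tensorPow_tw (a : ℤ) : ∀ p : ℕ,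
    Nonempty (CohB1.tensorPow (tw n A a) p ≅ tw n A ((p : ℤ) * a))
  | 0 => ⟨(twZero (n := n) (R := A)).symm ≪≫ eqToIso (by simp)⟩
  | p + 1 => by
    obtain ⟨i⟩ := nonempty_tensorPow_tw a p
    exact ⟨tensorIso i (Iso.refl _) ≪≫ twTensor _ _ ≪≫ eqToIso (congrArg (tw n A) (by push_cast; ring))⟩

/-- `⋀^p (O(-1)^{n+1})` is a sum of copies of `O(-p)`. -/
theorem nonempty_extPow_mid {p : ℕ} {B : (CohB1.ProjSpace n A).Modules}
    (hB : ExtPow.IsExtPow p (mid n A) B) :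
    Nonempty (B ≅ sumTS n A ((n + 1).choose p) (-(p : ℤ))) := by
  haveI := CurveBundle.Coherent.isQCoh_freeMod (CohB1.ProjSpace n A) (n + 1)
  obtain ⟨N, hN⟩ := FundLocal.ExtPowExists.exists_isExtPow (FlatMod.freeMod (CohB1.ProjSpace n A) (n + 1)) p
  obtain ⟨f⟩ := FreePow.nonempty_iso_free hN
  obtain ⟨φN, hφN⟩ := hN
  obtain ⟨φB, hφB⟩ := hB
  obtain ⟨i⟩ := Modules.ExtPowTwist.nonempty_iso φB hφB φN hφN (isInvertible_tw (n := n) (R := A) (-1))
  obtain ⟨j⟩ := nonempty_tensorPow_tw n A (-1) p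
  obtain ⟨s⟩ := nonempty_freeMod_tensor (n := n) (R := A) ((n + 1).choose p) (-(p : ℤ))
  exact ⟨i ≪≫ tensorIso f.symm (j ≪≫ eqToIso (congrArg (tw n A) (by ring))) ≪≫ s⟩

variable {n A}

/-- `0 → Ω^{p+1}(d) → O(d-p-1)^c → Ω^p(d) → 0`. -/
theorem exists_shortExact_extPow {p : ℕ} {L L' : (CohB1.ProjSpace n A).Modules}
    (hL : ExtPow.IsExtPow (p + 1) (ΩP n A) L) (hL' : ExtPow.IsExtPow p (ΩP n A) L') (d : ℤ) :
    ∃ S : ShortComplex (CohB1.ProjSpace n A).Modules, S.ShortExact ∧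
      S.X₁ = CohB1.tensorMod L (tw n A d) ∧ S.X₃ = CohB1.tensorMod L' (tw n A d) ∧
      Nonempty (S.X₂ ≅ sumTS n A ((n + 1).choose (p + 1)) (d - (p + 1 : ℕ))) := by
  haveI := isQCoh_omega n A
  haveI := isQCoh_mid n A
  obtain ⟨ι, γ, w, hS⟩ := exists_shortExact n A
  obtain ⟨B, hB⟩ := FundLocal.ExtPowExists.exists_isExtPow (mid n A) (p + 1)
  obtain ⟨T, hT, rfl, rfl, rfl⟩ := WedgeSES.exists_shortExact w hS hL hB hL'
  obtain ⟨i⟩ := nonempty_extPow_mid n A hB
  exact ⟨T.map (tensorBy (tw n A d)), shortExact_tw hT d, rfl, rfl,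
    ⟨tensorIso i (Iso.refl _) ≪≫ sumTensor _ _ d ≪≫
      eqToIso (congrArg (sumTS n A _) (by ring))⟩⟩

end Groth.Agent.Lib.Bott.Euler
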