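import Groth.Agent.Lib.Bott.Contract
import Groth.Agent.Lib.Modules.AffineHom
import Groth.Agent.Lib.ClSub.Basis
import Groth.Agent.Lib.ClSub.Sections
import Groth.Agent.Lib.PushClosed.Torsion
import Groth.Agent.Lib.QCoh.Closure
import Groth.Agent.Lib.FundLocal.ExtPowExists
import Groth.Prelude.Def_ExtPow2

/-!
# `0 → ⋀^{n+1} F → ⋀^{n+1} E → ⋀^n F → 0` for a short exact sequence `0 → F → E → O → 0`
-/

set_option autoImplicit false
set_option linter.style.haveILetI false
universe u

open CategoryTheory CategoryTheory.Limits AlgebraicGeometry Opposite TopologicalSpace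

noncomputable section

namespace Groth.Agent.Lib.Bott.WedgeSES

open Groth.Agent.Lib Groth.Agent.Lib.Bott.Contract
open Groth.Agent.Lib.TensorMod.Dual (rs rf rs_rs rs_smul)

section Formula

variable {R M : Type u} [CommRing R] [AddCommGroup M] [Module R M] (g : M →ₗ[R] R)

/-- Contraction of a decomposable element. -/
theorem contr_ιMulti (n : ℕ) (v : Fin (n + 1) → M) :
    contr g n (exteriorPower.ιMulti R (n + 1) v) =
      ∑ j : Fin (n + 1), ((-1 : ℤ) ^ (j : ℕ)) • g (v j) • exteriorPower.ιMulti R n (v ∘ j.succAbove) := by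
  refine Subtype.ext ?_
  rw [contr_ιMulti_eq]
  simp only [AddSubmonoidClass.coe_finsetSum, AddSubgroupClass.coe_zsmul, Submodule.coe_smul,
    exteriorPower.ιMulti_apply_coe]
  induction n with
  | zero =>
    rw [ExteriorAlgebra.ιMulti_succ_apply, κ_ι_mul, Fin.sum_univ_one]
    simp only [ExteriorAlgebra.ιMulti_apply, List.ofFn_zero, List.prod_nil, Fin.val_zero, pow_zero, one_zsmul]
    rw [show κ g (1 : ExteriorAlgebra R M) = 0 from
      CliffordAlgebra.contractLeft_one (Q := (0 : QuadraticForm R M)) g, mul_zero, sub_zero]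
  | succ n ih =>
    rw [ExteriorAlgebra.ιMulti_succ_apply, κ_ι_mul, ih (Matrix.vecTail v), sub_eq_add_neg,
      Finset.mul_sum, ← Finset.sum_neg_distrib]
    conv_rhs => rw [Fin.sum_univ_succ]
    congr 1
    · simp only [Fin.val_zero, pow_zero, one_zsmul]
      congr 2
    · refine Finset.sum_congr rfl fun j _ => ?_
      rw [mul_smul_comm, mul_smul_comm, Fin.val_succ, pow_succ', neg_one_mul, neg_zsmul]
      congr 3
      rw [ExteriorAlgebra.ιMulti_succ_apply]
      congr 2
      funext i
      simp [Matrix.vecTail, Function.comp, Fin.succ_succAbove_succ]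

end Formula

variable {X : Scheme.{u}} {F E : X.Modules}

/-- A map on sections. -/
abbrev secMap (f : F ⟶ E) (U : X.Opens) : Γ(F, U) →ₗ[Γ(X, U)] Γ(E, U) :=
  { toFun := f.app U, map_add' := map_add _, map_smul' := fun r m => Scheme.Modules.Hom.app_smul f r m }

/-- The functional on sections. -/
abbrev secFun (γ : E ⟶ Coh.structureModule X) (U : X.Opens) : Γ(E, U) →ₗ[Γ(X, U)] Γ(X, U) :=
  { toFun := fun m => (show Γ(X, U) from γ.app U m)
    map_add' := fun a b => map_add (γ.app U).hom a b
    map_smul' := fun r m => Scheme.Modules.Hom.app_smul γ r m }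

theorem rs_secFun (γ : E ⟶ Coh.structureModule X) {U V : X.Opens} (h : V ≤ U) (m : Γ(E, U)) :
    secFun γ V (rs E h m) = rf h (secFun γ U m) :=
  Modules.TensorSec.app_rs γ h m

theorem gen_induction {R M : Type u} [CommRing R] [AddCommGroup M] [Module R M] {i : ℕ}
    {P : ↥(⋀[R]^i M) → Prop} (gen : ∀ v, P (exteriorPower.ιMulti R i v)) (zero : P 0)
    (add : ∀ a b, P a → P b → P (a + b)) (smul : ∀ (c : R) a, P a → P (c • a)) (a : ↥(⋀[R]^i M)) : P a := by
  have ha : a ∈ Submodule.span R (Set.range (exteriorPower.ιMulti R i (M := M))) := by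
    rw [exteriorPower.ιMulti_span]; trivial
  induction ha using Submodule.span_induction with
  | mem t ht => obtain ⟨v, rfl⟩ := ht; exact gen v
  | zero => exact zero
  | add a b _ _ ha hb => exact add _ _ ha hb
  | smul c a _ ha => exact smul c _ ha

/-- The data of an exterior power. -/
abbrev PowData (i : ℕ) (E L : X.Modules) : Type u :=
  ∀ U : X.affineOpens, (L.val.obj (op U.1)) ≃ₗ[Γ(X, U.1)] ↥(⋀[Γ(X, U.1)]^i (E.val.obj (op U.1)))

/-- Compatibility with restriction. -/
abbrev IsCompat {i : ℕ} {E L : X.Modules} (φ : PowData i E L) : Prop :=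
  ∀ (U V : X.affineOpens) (h : V.1 ≤ U.1) (e : Fin i → E.val.obj (op U.1)),
    L.val.map (homOfLE h).op ((φ U).symm (exteriorPower.ιMulti _ i e)) =
      (φ V).symm (exteriorPower.ιMulti _ i (fun j => E.val.map (homOfLE h).op (e j)))

/-- A family of maps compatible on decomposable elements is compatible. -/
theorem compat_of_gen {i : ℕ} {L N : X.Modules} {φ : PowData i E L} (hφ : IsCompat φ)
    (f : ∀ U : X.affineOpens, Γ(L, U.1) →ₗ[Γ(X, U.1)] Γ(N, U.1))
    (hf : ∀ (U V : X.affineOpens) (h : V.1 ≤ U.1) (v : Fin i → Γ(E, U.1)),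
      rs N h (f U ((φ U).symm (exteriorPower.ιMulti _ i v))) =
        f V ((φ V).symm (exteriorPower.ιMulti _ i fun j => rs E h (v j))))
    (U V : X.affineOpens) (h : V.1 ≤ U.1) (m : Γ(L, U.1)) : rs N h (f U m) = f V (rs L h m) := by
  obtain ⟨x, rfl⟩ := (φ U).symm.surjective m
  induction x using gen_induction with
  | gen v => rw [hf U V h v]; exact congrArg (f V) (hφ U V h v).symm
  | zero =>
    refine ((congrArg (fun t => rs N h (f U t)) (φ U).symm.map_zero).trans ?_).trans
      (congrArg (fun t => f V (rs L h t)) (φ U).symm.map_zero).symm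
    exact ((congrArg (rs N h) (f U).map_zero).trans (map_zero _)).trans
      ((congrArg (f V) (map_zero (L.presheaf.map (homOfLE h).op).hom)).trans (f V).map_zero).symm
  | add a b ha hb =>
    refine ((congrArg (fun t => rs N h (f U t)) ((φ U).symm.map_add a b)).trans ?_).trans
      (congrArg (fun t => f V (rs L h t)) ((φ U).symm.map_add a b)).symm
    exact ((congrArg (rs N h) ((f U).map_add _ _)).trans (map_add _ _ _)).trans
      ((congrArg₂ (· + ·) ha hb).trans ((congrArg (f V) (map_add (L.presheaf.map (homOfLE h).op).hom _ _)).trans ((f V).map_add _ _)).symm)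
  | smul c a ha =>
    refine ((congrArg (fun t => rs N h (f U t)) ((φ U).symm.map_smul c a)).trans ?_).trans
      (congrArg (fun t => f V (rs L h t)) ((φ U).symm.map_smul c a)).symm
    exact ((congrArg (rs N h) ((f U).map_smul c _)).trans (rs_smul N h c _)).trans
      ((congrArg (rf h c • ·) ha).trans
        ((congrArg (f V) (rs_smul L h c _)).trans ((f V).map_smul _ _)).symm)

variable {ι : F ⟶ E} {γ : E ⟶ Coh.structureModule X} (w : ι ≫ γ = 0)
  (hS : (ShortComplex.mk ι γ w).ShortExact)

include hS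

/-- A splitting on an affine open. -/
theorem exists_split [F.IsQuasicoherent] [E.IsQuasicoherent] {U : X.Opens} (hU : IsAffineOpen U) :
    (∀ x, secFun γ U (secMap ι U x) = 0) ∧
    ∃ (π : Γ(E, U) →ₗ[Γ(X, U)] Γ(F, U)) (s : Γ(E, U)), secFun γ U s = 1 ∧
      (∀ x, π (secMap ι U x) = x) ∧ ∀ v, secMap ι U (π v) + secFun γ U v • s = v := by
  haveI : Epi γ := hS.epi_g
  haveI : (ShortComplex.mk ι γ w).X₁.IsQuasicoherent := ‹F.IsQuasicoherent›
  haveI : (ShortComplex.mk ι γ w).X₂.IsQuasicoherent := ‹E.IsQuasicoherent›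
  haveI : Epi (ShortComplex.mk ι γ w).g := hS.epi_g
  haveI : (Coh.structureModule X).IsQuasicoherent :=
    QCoh.Closure.isQCoh_of_exact_epi (S := ShortComplex.mk ι γ w) hS.exact
  haveI : Mono ι := hS.mono_f
  have hz : ∀ x, secFun γ U (secMap ι U x) = 0 := fun x =>
    congrArg (fun f : F ⟶ Coh.structureModule X => f.app U x) w
  obtain ⟨s, hs⟩ := QCoh.Closure.sections_surjective_of_epi γ hU (1 : Γ(X, U))
  have hinj : Function.Injective (secMap ι U) := PushClosed.Torsion.injective_app_of_mono ι U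
  have hrange : ∀ v, v - secFun γ U v • s ∈ LinearMap.range (secMap ι U) := fun v => by
    have h0 : secFun γ U (v - secFun γ U v • s) = 0 := by
      rw [map_sub, LinearMap.map_smul, show secFun γ U s = 1 from hs, smul_eq_mul, mul_one, sub_self]
    haveI : IsIso (kernel.lift γ ι w) := by
      haveI : Mono (kernel.lift γ ι w) := mono_of_mono_fac (kernel.lift_ι γ ι w)
      haveI : Epi (kernel.lift γ ι w) := ShortComplex.exact_iff_epi_kernel_lift _ |>.1 hS.exact
      exact isIso_of_mono_of_epi _
    obtain ⟨m, hm⟩ := ClSub.Sections.exists_kernel_ι_app_eq γ U _ h0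
    refine ⟨(inv (kernel.lift γ ι w)).app U m, ?_⟩
    rw [← hm]
    exact congrArg (fun f : kernel γ ⟶ E => f.app U m)
      (show inv (kernel.lift γ ι w) ≫ ι = kernel.ι γ by rw [IsIso.inv_comp_eq, kernel.lift_ι])
  let e := LinearEquiv.ofInjective (secMap ι U) hinj
  let π : Γ(E, U) →ₗ[Γ(X, U)] Γ(F, U) := e.symm.toLinearMap.comp
    (LinearMap.codRestrict _ (LinearMap.id - (secFun γ U).smulRight s) hrange)
  have hπ : ∀ v, secMap ι U (π v) = v - secFun γ U v • s := fun v =>
    congrArg Subtype.val (e.apply_symm_apply ⟨_, hrange v⟩)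
  exact ⟨hz, π, s, hs, fun x => hinj (by rw [hπ, hz, zero_smul, sub_zero]), fun v => by
    rw [hπ, sub_add_cancel]⟩

/-- Exterior powers of a short exact sequence ending in the structure module. -/
theorem exists_shortExact [F.IsQuasicoherent] [E.IsQuasicoherent] {n : ℕ} {A B C : X.Modules}
    (hA : ExtPow.IsExtPow (n + 1) F A) (hB : ExtPow.IsExtPow (n + 1) E B) (hC : ExtPow.IsExtPow n F C) :
    ∃ T : ShortComplex X.Modules, T.ShortExact ∧ T.X₁ = A ∧ T.X₂ = B ∧ T.X₃ = C := by
  obtain ⟨φA, hφA⟩ := hA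
  obtain ⟨φB, hφB⟩ := hB
  obtain ⟨φC, hφC⟩ := hC
  choose π s hs hπi hπ using fun U : X.affineOpens => (exists_split w hS U.2).2
  have hgi := fun U : X.affineOpens => (exists_split w hS U.2).1
  have key := fun U : X.affineOpens => Contract.exact_and_surjective (secFun γ U.1) n (secMap ι U.1) (π U) (s U)
    (hgi U) (hπi U) (hπ U) (hs U)
  have hinjn : ∀ U : X.affineOpens, Function.Injective (exteriorPower.map n (secMap ι U.1)) := fun U =>
    Function.LeftInverse.injective (g := exteriorPower.map n (π U)) fun x => by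
      rw [← LinearMap.comp_apply, ← exteriorPower.map_comp,
        show (π U).comp (secMap ι U.1) = LinearMap.id from LinearMap.ext (hπi U), exteriorPower.map_id,
        LinearMap.id_apply]
  let fa : ∀ U : X.affineOpens, Γ(A, U.1) →ₗ[Γ(X, U.1)] Γ(B, U.1) := fun U =>
    (φB U).symm.toLinearMap.comp ((exteriorPower.map (n + 1) (secMap ι U.1)).comp (φA U).toLinearMap)
  let fb : ∀ U : X.affineOpens, Γ(B, U.1) →ₗ[Γ(X, U.1)] Γ(C, U.1) := fun U =>
    (φC U).symm.toLinearMap.comp (((exteriorPower.map n (π U)).comp (contr (secFun γ U.1) n)).comp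
      (φB U).toLinearMap)
  have hfa : ∀ (U V : X.affineOpens) (h : V.1 ≤ U.1) (v : Fin (n + 1) → Γ(F, U.1)),
      rs B h (fa U ((φA U).symm (exteriorPower.ιMulti _ _ v))) =
        fa V ((φA V).symm (exteriorPower.ιMulti _ _ fun j => rs F h (v j))) := fun U V h v => by
    show rs B h ((φB U).symm (exteriorPower.map (n + 1) (secMap ι U.1)
        ((φA U) ((φA U).symm (exteriorPower.ιMulti _ _ v))))) =
      (φB V).symm (exteriorPower.map (n + 1) (secMap ι V.1)
        ((φA V) ((φA V).symm (exteriorPower.ιMulti _ _ fun j => rs F h (v j)))))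
    erw [(φA U).apply_symm_apply, (φA V).apply_symm_apply, exteriorPower.map_apply_ιMulti,
      exteriorPower.map_apply_ιMulti]
    refine (hφB U V h _).trans (congrArg (fun t => (φB V).symm (exteriorPower.ιMulti _ _ t)) (funext fun j => ?_))
    exact (Modules.TensorSec.app_rs ι h (v j)).symm
  have hfb : ∀ (U V : X.affineOpens) (h : V.1 ≤ U.1) (v : Fin (n + 1) → Γ(E, U.1)),
      rs C h (fb U ((φB U).symm (exteriorPower.ιMulti _ _ v))) =
        fb V ((φB V).symm (exteriorPower.ιMulti _ _ fun j => rs E h (v j))) := fun U V h v => by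
    show rs C h ((φC U).symm (exteriorPower.map n (π U) (contr (secFun γ U.1) n
        ((φB U) ((φB U).symm (exteriorPower.ιMulti _ _ v)))))) =
      (φC V).symm (exteriorPower.map n (π V) (contr (secFun γ V.1) n
        ((φB V) ((φB V).symm (exteriorPower.ιMulti _ _ fun j => rs E h (v j))))))
    erw [(φB U).apply_symm_apply, (φB V).apply_symm_apply]
    -- compare the images in `⋀^n E`
    apply (φC V).injective
    apply hinjn V
    erw [(φC V).apply_symm_apply, ← (key V).2.1]
    let Φ : ↥(⋀[Γ(X, U.1)]^n Γ(F, U.1)) →+ ↥(⋀[Γ(X, V.1)]^n Γ(F, V.1)) :=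
      { toFun := fun z => φC V (rs C h ((φC U).symm z))
        map_zero' := ((congrArg (fun t => φC V (rs C h t)) (φC U).symm.map_zero).trans
          (congrArg (φC V) (map_zero (C.presheaf.map (homOfLE h).op).hom))).trans (φC V).map_zero
        map_add' := fun a b => ((congrArg (fun t => φC V (rs C h t)) ((φC U).symm.map_add a b)).trans
          (congrArg (φC V) (map_add (C.presheaf.map (homOfLE h).op).hom _ _))).trans ((φC V).map_add _ _) }
    show exteriorPower.map n (secMap ι V.1)
      (Φ (exteriorPower.map n (π U) (contr (secFun γ U.1) n (exteriorPower.ιMulti _ _ v)))) = _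
    have hΦs : ∀ (c : Γ(X, U.1)) z, Φ (c • z) = rf h c • Φ z := fun c z =>
      ((congrArg (fun t => φC V (rs C h t)) ((φC U).symm.map_smul c z)).trans
        (congrArg (φC V) (rs_smul C h c _))).trans ((φC V).map_smul _ _)
    have hΦg : ∀ e, Φ (exteriorPower.ιMulti _ n e) = exteriorPower.ιMulti _ n fun j => rs F h (e j) := fun e =>
      (congrArg (φC V) (hφC U V h e)).trans ((φC V).apply_symm_apply _)
    -- restriction on `⋀^n E`
    let L : ↥(⋀[Γ(X, U.1)]^n Γ(E, U.1)) →+ ↥(⋀[Γ(X, V.1)]^n Γ(E, V.1)) := FundLocal.ExtPowExists.pr E n h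
    have hLg : ∀ e, L (exteriorPower.ιMulti _ n e) = exteriorPower.ιMulti _ n fun j => rs E h (e j) :=
      fun e => FundLocal.ExtPowExists.pr_ιMulti E n h e
    have hLs : ∀ (c : Γ(X, U.1)) z, L (c • z) = rf h c • L z := fun c z =>
      FundLocal.ExtPowExists.pr_smul E n h c z
    have hnat : ∀ z, exteriorPower.map n (secMap ι V.1) (Φ z) = L (exteriorPower.map n (secMap ι U.1) z) := by
      intro z
      induction z using gen_induction with
      | gen e =>
        rw [hΦg, exteriorPower.map_apply_ιMulti, exteriorPower.map_apply_ιMulti, hLg]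
        exact congrArg (exteriorPower.ιMulti _ n) (funext fun j => Modules.TensorSec.app_rs ι h (e j))
      | zero => simp only [map_zero]
      | add a b ha hb => simp only [map_add, ha, hb]
      | smul c a ha => rw [hΦs, LinearMap.map_smul, LinearMap.map_smul, ha, hLs]
    rw [hnat, ← (key U).2.1, contr_ιMulti, map_sum]
    refine Eq.trans ?_ (contr_ιMulti (secFun γ V.1) n _).symm
    refine Finset.sum_congr rfl fun j _ => ?_
    rw [map_zsmul, hLs, hLg, rs_secFun γ h (v j)]
    rfl
  obtain ⟨a, ha⟩ := Modules.AffineHom.exists_hom_of_affine fa (compat_of_gen hφA fa hfa)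
  obtain ⟨b, hb⟩ := Modules.AffineHom.exists_hom_of_affine fb (compat_of_gen hφB fb hfb)
  have hsec : ∀ U : X.affineOpens, Function.Injective (a.app U.1) ∧ Function.Exact (a.app U.1) (b.app U.1) ∧
      Function.Surjective (b.app U.1) := by
    intro U
    obtain ⟨k1, -, k3, k4⟩ := key U
    refine ⟨fun x y hxy => ?_, fun y => ?_, fun z => ?_⟩
    · rw [ha, ha] at hxy
      exact (φA U).injective (k1 ((φB U).symm.injective hxy))
    · rw [hb]
      refine ⟨fun h0 => ?_, ?_⟩
      · obtain ⟨t, ht⟩ := (k3 _).1 ((LinearEquiv.map_eq_zero_iff (φC U).symm).1 h0)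
        refine ⟨(φA U).symm t, (ha U _).trans ?_⟩
        show (φB U).symm (exteriorPower.map (n + 1) (secMap ι U.1) (φA U ((φA U).symm t))) = y
        rw [LinearEquiv.apply_symm_apply, ht]
        exact (φB U).symm_apply_apply y
      · rintro ⟨x, rfl⟩
        rw [ha]
        show (φC U).symm _ = 0
        refine (LinearEquiv.map_eq_zero_iff _).2 ((k3 _).2 ⟨φA U x, ?_⟩)
        exact ((φB U).apply_symm_apply _).symm
    · obtain ⟨t, ht⟩ := k4 (φC U z)
      refine ⟨(φB U).symm t, (hb U _).trans ?_⟩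
      show (φC U).symm _ = z
      rw [LinearEquiv.symm_apply_eq, ← ht]
      exact congrArg (fun t => exteriorPower.map n (π U) (contr (secFun γ U.1) n t)) ((φB U).apply_symm_apply t)
  have hab : a ≫ b = 0 := Modules.AffineHom.hom_ext_affine fun U x => ((hsec U).2.1 _).2 ⟨x, rfl⟩
  let T := ShortComplex.mk a b hab
  haveI : Mono a := ClSub.Basis.mono_of_injective_affine (φ := a) fun U => (hsec U).1
  haveI : Epi b := ClSub.Basis.epi_of_surjective_affine (φ := b) fun U => (hsec U).2.2
  refine ⟨T, { exact := ?_ }, rfl, rfl, rfl⟩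
  rw [ShortComplex.exact_iff_epi_kernel_lift]
  refine ClSub.Basis.epi_of_surjective_affine (φ := kernel.lift b a hab) fun U k => ?_
  have h0 : b.app U.1 ((kernel.ι b).app U.1 k) = 0 :=
    congrArg (fun f : kernel b ⟶ C => f.app U.1 k) (kernel.condition b)
  obtain ⟨x, hx⟩ := ((hsec U).2.1 _).1 h0
  refine ⟨x, PushClosed.Torsion.injective_app_of_mono (kernel.ι b) U.1 ?_⟩
  rw [← hx]
  exact congrArg (fun f : A ⟶ B => f.app U.1 x) (kernel.lift_ι b a hab)

end Groth.Agent.Lib.Bott.WedgeSES
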